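import Mathlib
import Cfsg.Prelude.Def_Classical
import Cfsg.Agent.Lib.Helper14.OmegaInv
import Cfsg.Agent.Lib.Helper8.PG.Defs

/-!
# [NEGREFL] for the prime graph project S2474

`-(reflection along v₀)` is the product of the reflections along the orthogonal basis
`e₀, e_i ± f_i` (whose product is `-1`) and the reflection along `v₀`: an even number `2 n + 2`
of reflections whose norms multiply to `(-1) ^ n * Q v₀`.
-/

set_option autoImplicit false

namespace Cfsg.Agent.Lib.Helper4.PG

open Matrix Cfsg.Agent.Lib.Helper14 Cfsg.Agent.Lib.Helper8.PG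

universe u

/-- The reflection along the anisotropic basis vector `e₀` of `quadFormOdd`. -/
theorem refl_unit {F : Type u} [Field F] (n : ℕ) :
    Cfsg.reflectionMatrix ⇑(oddQF n F) (Pi.single (Sum.inl ()) 1) =
      Matrix.diagonal (fun k : OI n => if k = Sum.inl () then (-1 : F) else 1) := by
  rw [ext_iff_mulVec]
  intro x
  have hq : (oddQF n F) (Pi.single (Sum.inl ()) 1) = 1 := by
    rw [oddQF_coe]
    simp [Cfsg.quadFormOdd]
  rw [reflectionMatrix_mulVec, hq, oddQF_coe, odd_polar_unit]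
  funext j
  rw [mulVec_diagonal]
  by_cases hj : j = Sum.inl ()
  · subst hj
    simp
    ring
  · simp [hj]

/-- The matrix `-1` is a product of `2 n + 1` reflections with norm product `(-1) ^ n`. -/
theorem neg_one_prod {F : Type u} [Field F] (n : ℕ) :
    ∃ l : List (OI n → F), (∀ u ∈ l, (oddQF n F) u ≠ 0) ∧ l.length = 2 * n + 1 ∧
      (l.map ⇑(oddQF n F)).prod = (-1) ^ n ∧
      (l.map (Cfsg.reflectionMatrix ⇑(oddQF n F))).prod = -1 := by
  obtain ⟨l, hl, hlen, hprod, hmat⟩ := hyp_pairs_diag (oddQF n F) n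
    (fun j => Sum.inr (Sum.inl j)) (fun j => Sum.inr (Sum.inr j))
    (by rw [oddQF_coe]; exact odd_isHypPair n F)
    (Sum.elim (fun _ => n) (Sum.elim (fun j : Fin n => (j : ℕ)) (fun j : Fin n => (j : ℕ)))) n
    le_rfl (by
      rintro j (i | i | i) hj
      · simp only [Sum.elim_inl, reduceCtorEq, or_self, iff_false]
        omega
      · simp [Fin.ext_iff]
      · simp [Fin.ext_iff])
  have hq : (oddQF n F) (Pi.single (Sum.inl ()) 1) = 1 := by
    rw [oddQF_coe]
    simp [Cfsg.quadFormOdd]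
  refine ⟨Pi.single (Sum.inl ()) 1 :: l, ?_, ?_, ?_, ?_⟩
  · intro u hu
    rcases List.mem_cons.mp hu with rfl | hu
    · rw [hq]; exact one_ne_zero
    · exact hl u hu
  · simp [hlen]
  · rw [List.map_cons, List.prod_cons, hprod, hq, one_mul]
  · rw [List.map_cons, List.prod_cons, hmat, refl_unit, Matrix.diagonal_mul_diagonal,
      ← Matrix.diagonal_one, Matrix.diagonal_neg]
    congr 1
    funext k
    rcases k with k | k | k <;> simp

theorem pkgNegRefl : PkgNegRefl.{u} := by
  intro F _ _ hodd n z hz v₀ hv₀ hfix hneg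
  have h2 : (2 : F) ≠ 0 := two_ne_zero_of_card_odd hodd
  have hQ := oddQF_nondegenerate n F h2
  have hcoe := oddQF_coe n F
  obtain ⟨l, hl, hlen, hprod, hmat⟩ := neg_one_prod (F := F) n
  have hv₀' : (oddQF n F) v₀ ≠ 0 := by rw [hcoe]; exact hv₀
  set Z : Matrix (OI n) (OI n) F :=
    ((z : Matrix.GeneralLinearGroup (OI n) F) : Matrix (OI n) (OI n) F) with hZ
  have hl' : ∀ u ∈ l ++ [v₀], (oddQF n F) u ≠ 0 := by
    intro u hu
    rcases List.mem_append.mp hu with hu | hu
    · exact hl u hu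
    · rw [List.mem_singleton] at hu
      rw [hu]; exact hv₀'
  have hM : ((l ++ [v₀]).map (Cfsg.reflectionMatrix ⇑(oddQF n F))).prod = Z := by
    rw [List.map_append, List.prod_append, hmat]
    simp only [List.map_cons, List.map_nil, List.prod_cons, List.prod_nil, mul_one]
    rw [ext_iff_mulVec]
    intro x
    rw [neg_one_mul, neg_mulVec, reflectionMatrix_mulVec]
    set c : F := ((oddQF n F) v₀)⁻¹ * QuadraticMap.polar ⇑(oddQF n F) v₀ x with hc
    have hw : QuadraticMap.polar (Cfsg.quadFormOdd n F) v₀ (x - (2⁻¹ * c) • v₀) = 0 := by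
      rw [← hcoe, QuadraticMap.polar_sub_right, QuadraticMap.polar_smul_right, polar_self_eq, hc]
      simp only [smul_eq_mul]
      field_simp
      ring
    have h1 := hneg _ hw
    rw [mulVec_sub, mulVec_smul, hfix] at h1
    have h3 : Z *ᵥ x = -(x - (2⁻¹ * c) • v₀) + (2⁻¹ * c) • v₀ := by
      rw [← h1]; abel
    rw [h3]
    have h4 : (2⁻¹ * c) • v₀ + (2⁻¹ * c) • v₀ = c • v₀ := by
      rw [← add_smul]
      congr 1
      field_simp
      ring
    rw [neg_sub, ← h4]
    abel
  have key := (exists_mem_omega_iff h2 (oddQF n F) hQ (Cfsg.quadFormOdd n F) hcoe (l ++ [v₀]) hl'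
    Z hM).mp ⟨z, hz, rfl⟩
  have hp : ((l ++ [v₀]).map ⇑(oddQF n F)).prod = (-1) ^ n * Cfsg.quadFormOdd n F v₀ := by
    rw [List.map_append, List.prod_append, hprod, hcoe]
    simp
  rw [hp] at key
  exact key.2

end Cfsg.Agent.Lib.Helper4.PG
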